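import Groth.Agent.WeierLocal.Nil
import Mathlib.Algebra.QuadraticAlgebra.Defs
import Mathlib.Algebra.TrivSqZeroExt.Basic
import Mathlib.RingTheory.DiscreteValuationRing.Basic
import Mathlib.RingTheory.MvPowerSeries.Inverse

/-! A cotangent computation for a Weierstrass singularity in residue characteristic two. -/

universe u

namespace Groth.Agent.WeierLocal

open MvPowerSeries

variable {R : Type u} [CommRing R]

local notation "P" => MvPowerSeries (Fin 2) R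

/-- generation: any relations of this shape cut down the powers of the maximal ideal -/
theorem pow_le {I : Ideal P} {t c q : P} (ht : t - X 1 ^ 2 * c ∈ I) (hx : X 0 ^ 2 - X 1 ^ 3 * q ∈ I) (m : ℕ) :
    (Ideal.span {t, X 0, X 1}) ^ (m + 1) ≤ Ideal.span {X 1 ^ (m + 1), X 0 * X 1 ^ m} ⊔ I := by
  have mem : ∀ (n : ℕ) (α β z w : P), z ∈ I → w = α * X 1 ^ (n + 1) + β * (X 0 * X 1 ^ n) + z →
      w ∈ Ideal.span {X 1 ^ (n + 1), X 0 * X 1 ^ n} ⊔ I := by
    intro n α β z w hz hw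
    rw [hw]
    exact Submodule.add_mem_sup (Ideal.mem_span_pair.2 ⟨α, β, rfl⟩) hz
  induction m with
  | zero =>
    rw [pow_one, Ideal.span_le]
    intro z hz
    rcases hz with rfl | rfl | rfl
    · exact mem 0 (X 1 * c) 0 _ _ ht (by ring)
    · exact mem 0 0 1 0 _ I.zero_mem (by ring)
    · exact mem 0 1 0 0 _ I.zero_mem (by ring)
  | succ m ih =>
    rw [pow_succ]
    refine (Ideal.mul_mono_left ih).trans ?_
    rw [Ideal.sup_mul]
    refine sup_le ?_ (Ideal.mul_le_left.trans le_sup_right)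
    rw [Ideal.span_mul_span', Ideal.span_le]
    intro z hz
    obtain ⟨g, hg, h, hh, rfl⟩ := Set.mem_mul.1 hz
    rcases hg with rfl | rfl <;> rcases hh with rfl | rfl | rfl
    · exact mem (m + 1) (X 1 * c) 0 _ _ (I.mul_mem_left (X 1 ^ (m + 1)) ht) (by ring)
    · exact mem (m + 1) 0 1 0 _ I.zero_mem (by ring)
    · exact mem (m + 1) 1 0 0 _ I.zero_mem (by ring)
    · exact mem (m + 1) 0 (X 1 * c) _ _ (I.mul_mem_left (X 0 * X 1 ^ m) ht) (by ring)
    · exact mem (m + 1) (X 1 * q) 0 _ _ (I.mul_mem_left (X 1 ^ m) hx) (by ring)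
    · exact mem (m + 1) 0 1 0 _ I.zero_mem (by ring)

/-- the first shape of the relations -/
theorem exists_rel {I : Ideal P} (t a₁ a₆ : R) (v : ℕ) (hv : 1 ≤ v) (u₁ u₆ w₃ : R) (hu₆ : IsUnit u₆)
    (hw₃ : (3 : R) * w₃ = 1)
    (ha₁ : a₁ = u₁ * t ^ v) (ha₆ : a₆ = u₆ * t)
    (hf : X 1 ^ 2 + a₁ • (X 0 * X 1) - X 0 ^ 3 - C a₆ ∈ I) (hh : 3 * X 0 ^ 2 - a₁ • X 1 ∈ I) :
    ∃ c q : P, C t - X 1 ^ 2 * c ∈ I ∧ X 0 ^ 2 - X 1 ^ 3 * q ∈ I := by
  obtain ⟨v, rfl⟩ := Nat.exists_eq_add_of_le' hv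
  let W : P := C u₆ - C (2 * u₁ * t ^ v * w₃) * (X 0 * X 1)
  have hW : IsUnit W := by
    rw [isUnit_iff_constantCoeff]
    simpa [W] using hu₆
  obtain ⟨Wu, hWu⟩ := hW
  have h3 : (3 : P) * C w₃ = 1 := by rw [← map_ofNat C 3, ← map_mul, hw₃, map_one]
  have h1 : C t * W - X 1 ^ 2 ∈ I := by
    have e : C t * W - X 1 ^ 2 = (-1) * (X 1 ^ 2 + a₁ • (X 0 * X 1) - X 0 ^ 3 - C a₆) +
        (-(C w₃ * X 0)) * (3 * X 0 ^ 2 - a₁ • X 1) +
          (3 * C w₃ - 1) * (X 0 ^ 3 - C t * C t ^ v * C u₁ * X 0 * X 1) := by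
      simp only [W, smul_eq_C_mul, ha₁, ha₆, map_mul, map_pow, map_ofNat, pow_succ]
      ring
    rw [e, h3, sub_self, zero_mul, add_zero]
    exact I.add_mem (I.mul_mem_left _ hf) (I.mul_mem_left _ hh)
  let c : P := ↑Wu⁻¹
  have hc : C t - X 1 ^ 2 * c ∈ I := by
    have e : C t - X 1 ^ 2 * c = c * (C t * W - X 1 ^ 2) + (1 - c * W) * C t := by ring
    rw [e, show c * W = 1 by simp [c, ← hWu], sub_self, zero_mul, add_zero]
    exact I.mul_mem_left _ h1
  refine ⟨c, C w₃ * C u₁ * c * C t ^ v, hc, ?_⟩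
  have e : X 0 ^ 2 - X 1 ^ 3 * (C w₃ * C u₁ * c * C t ^ v) = C w₃ * (3 * X 0 ^ 2 - a₁ • X 1) +
      (C w₃ * C u₁ * C t ^ v * X 1) * (C t - X 1 ^ 2 * c) + (1 - 3 * C w₃) * X 0 ^ 2 := by
    simp only [smul_eq_C_mul, ha₁, map_mul, map_pow, pow_succ]
    ring
  rw [e, h3, sub_self, zero_mul, add_zero]
  exact I.add_mem (I.mul_mem_left _ hh) (I.mul_mem_left _ hc)

theorem le_ker {T : Type u} [CommRing T] (φ : P →+* T) {s : Set P} (h : ∀ z ∈ s, φ z = 0) :
    Ideal.span s ≤ RingHom.ker φ :=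
  Ideal.span_le.2 fun z hz => h z hz

theorem quad_sq (c : R) :
    (⟨0, 1⟩ : QuadraticAlgebra R c 0) * ⟨0, 1⟩ = algebraMap R (QuadraticAlgebra R c 0) c := by
  rw [QuadraticAlgebra.algebraMap_eq, QuadraticAlgebra.mk_mul_mk]
  simp

theorem quad_re (c r : R) (z : QuadraticAlgebra R c 0) :
    (algebraMap R (QuadraticAlgebra R c 0) r * ⟨0, 1⟩ * z).re = r * (c * z.im) := by
  rw [QuadraticAlgebra.algebraMap_eq]
  simp
  ring

theorem snd_eps {A : Type u} [CommRing A] (x y : A) :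
    (TrivSqZeroExt.inlHom A A x * (TrivSqZeroExt.inr 1 * TrivSqZeroExt.inlHom A A y)).snd = x * y := by
  simp [TrivSqZeroExt.inlHom, TrivSqZeroExt.snd_mul]

/-- independence -/
theorem indep [IsDomain R] (a₁ a₆ : R) (hne : a₆ ≠ 0) (v : ℕ) (hv : 1 ≤ v) (s₁ s₂ : R)
    (h1 : a₁ = s₁ * a₆ ^ v) (h2 : (2 : R) = s₂ * a₆ ^ v) (a b : R)
    (hmem : a • (X 1 : P) ^ (2 * v) + b • (X 0 * X 1 ^ (2 * v - 1)) ∈
      Ideal.span {(X 1 : P) ^ (2 * v + 1), X 0 * X 1 ^ (2 * v)} ⊔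
        Ideal.span {(X 1 : P) ^ 2 + a₁ • (X 0 * X 1) - X 0 ^ 3 - C a₆, 2 * X 1 + a₁ • X 0,
          3 * X 0 ^ 2 - a₁ • X 1}) :
    a₆ ∣ a ∧ a₆ ∣ b := by
  let Q := QuadraticAlgebra R a₆ 0
  let p : Q := ⟨0, 1⟩
  have hp2 : p * p = algebraMap R Q a₆ := by
    exact quad_sq a₆
  have hpe : ∀ j, p ^ (2 * j) = algebraMap R Q (a₆ ^ j) := fun j => by
    rw [pow_mul, sq, hp2, map_pow]
  -- cancellation
  have cancel : ∀ (r : R) (j : ℕ) (z : Q), algebraMap R Q (r * a₆ ^ j) = p ^ (2 * j + 1) * z → a₆ ∣ r := by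
    intro r j z hz
    rw [pow_succ, hpe] at hz
    have := congrArg QuadraticAlgebra.re hz
    refine ⟨z.im, mul_left_cancel₀ (pow_ne_zero j hne) ?_⟩
    calc a₆ ^ j * r = r * a₆ ^ j := mul_comm _ _
      _ = (algebraMap R (QuadraticAlgebra R a₆ 0) (a₆ ^ j) * ⟨0, 1⟩ * z).re := this
      _ = a₆ ^ j * (a₆ * z.im) := quad_re _ _ _
  constructor
  · let J : Ideal Q := Ideal.span {p ^ (2 * v + 1)}
    let π : Q →+* Q ⧸ J := Ideal.Quotient.mk J
    obtain ⟨φ, hC, hX⟩ := exists_evalNil (R := R) ![(0 : Q ⧸ J), π p] (2 * v) (fun i => by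
      fin_cases i
      · simp
      · show π p ^ (2 * v + 1) = 0
        rw [← map_pow]
        exact Ideal.Quotient.eq_zero_iff_mem.2 (Ideal.mem_span_singleton_self _))
    have hx : φ (X 0) = 0 := hX 0
    have hy : φ (X 1) = π p := hX 1
    have hC' : ∀ r, φ (C r) = π (algebraMap R Q r) := hC
    have hz : π p ^ (2 * v + 1) = 0 := by
      rw [← map_pow]; exact Ideal.Quotient.eq_zero_iff_mem.2 (Ideal.mem_span_singleton_self _)
    have hk := sup_le (le_ker φ (s := {(X 1 : P) ^ (2 * v + 1), X 0 * X 1 ^ (2 * v)}) ?_)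
      (le_ker φ (s := {(X 1 : P) ^ 2 + a₁ • (X 0 * X 1) - X 0 ^ 3 - C a₆, 2 * X 1 + a₁ • X 0,
          3 * X 0 ^ 2 - a₁ • X 1}) ?_) hmem
    · rw [RingHom.mem_ker] at hk
      simp only [smul_eq_C_mul, map_add, map_mul, map_pow, hx, hy, hC', zero_mul, mul_zero, add_zero] at hk
      rw [← map_pow, hpe, ← map_mul, ← map_mul, Ideal.Quotient.eq_zero_iff_mem, Ideal.mem_span_singleton] at hk
      obtain ⟨z, hzz⟩ := hk
      exact cancel a v z hzz
    · rintro z (rfl | rfl)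
      · rw [map_pow, hy, hz]
      · rw [map_mul, hx, zero_mul]
    · rintro z (rfl | rfl | rfl)
      · simp only [smul_eq_C_mul, map_sub, map_add, map_mul, map_pow, hx, hy, hC', zero_mul, mul_zero, add_zero,
          zero_pow (three_ne_zero), sub_zero]
        rw [← map_pow, sq, hp2, sub_self]
      · simp only [smul_eq_C_mul, map_add, map_mul, hx, hy, mul_zero, add_zero]
        rw [← map_ofNat C 2, hC', h2, map_mul, map_mul, ← hpe, map_pow, mul_assoc, ← pow_succ, hz, mul_zero]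
      · simp only [smul_eq_C_mul, map_sub, map_mul, map_pow, hx, hy, hC', zero_pow (two_ne_zero), mul_zero,
          zero_sub]
        rw [h1, map_mul, map_mul, ← hpe, map_pow, mul_assoc, ← pow_succ, hz, mul_zero, neg_zero]
  · let J : Ideal Q := Ideal.span {p ^ (2 * v)}
    let π : Q →+* Q ⧸ J := Ideal.Quotient.mk J
    let T := TrivSqZeroExt (Q ⧸ J) (Q ⧸ J)
    let ε : T := TrivSqZeroExt.inr 1
    let inl : (Q ⧸ J) →+* T := TrivSqZeroExt.inlHom (Q ⧸ J) (Q ⧸ J)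
    have hz : inl (π p) ^ (2 * v) = 0 := by
      rw [← map_pow, ← map_pow]
      show inl (π (p ^ (2 * v))) = 0
      rw [Ideal.Quotient.eq_zero_iff_mem.2 (Ideal.mem_span_singleton_self _), map_zero]
    have hε : ε * ε = 0 := TrivSqZeroExt.inr_mul_inr _ _ _
    obtain ⟨φ, hC, hX⟩ := exists_evalNil (R := R) ![ε, inl (π p)] (2 * v) (fun i => by
      fin_cases i
      · exact pow_eq_zero_of_le (show 2 ≤ 2 * v + 1 by omega) (by rw [sq]; exact hε)
      · exact pow_eq_zero_of_le (Nat.le_succ _) hz)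
    have hx : φ (X 0) = ε := hX 0
    have hy : φ (X 1) = inl (π p) := hX 1
    have hC' : ∀ r, φ (C r) = inl (π (algebraMap R Q r)) := hC
    have hpv : inl (π (algebraMap R Q (a₆ ^ v))) = 0 := by rw [← hpe, map_pow, map_pow, hz]
    have hk := sup_le (le_ker φ (s := {(X 1 : P) ^ (2 * v + 1), X 0 * X 1 ^ (2 * v)}) ?_)
      (le_ker φ (s := {(X 1 : P) ^ 2 + a₁ • (X 0 * X 1) - X 0 ^ 3 - C a₆, 2 * X 1 + a₁ • X 0,
          3 * X 0 ^ 2 - a₁ • X 1}) ?_) hmem
    · rw [RingHom.mem_ker] at hk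
      simp only [smul_eq_C_mul, map_add, map_mul, map_pow, hx, hy, hC', hz, mul_zero, zero_add] at hk
      rw [← map_pow inl, ← map_pow π] at hk
      have h' := congrArg TrivSqZeroExt.snd hk
      replace h' : π (algebraMap R Q b) * π (p ^ (2 * v - 1)) = 0 := (snd_eps _ _).symm.trans h'
      rw [← map_mul] at h'
      rw [Ideal.Quotient.eq_zero_iff_mem, Ideal.mem_span_singleton] at h'
      obtain ⟨z, hzz⟩ := h'
      obtain ⟨v, rfl⟩ := Nat.exists_eq_add_of_le' hv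
      refine cancel b (v + 1) z ?_
      rw [map_mul, ← hpe, show 2 * (v + 1) + 1 = 1 + (2 * v + 2) by ring, show 2 * (v + 1) = 1 + (2 * v + 1) by ring,
        pow_add, pow_add, pow_one]
      rw [show 2 * (v + 1) - 1 = 2 * v + 1 by omega, show 2 * (v + 1) = 2 * v + 2 by ring] at hzz
      linear_combination (p : Q) * hzz
    · rintro z (rfl | rfl)
      · rw [map_pow, hy, pow_succ, hz, zero_mul]
      · rw [map_mul, map_pow, hx, hy, hz, mul_zero]
    · rintro z (rfl | rfl | rfl)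
      · simp only [smul_eq_C_mul, map_sub, map_add, map_mul, map_pow, hx, hy, hC']
        rw [pow_three, hε, mul_zero, sub_zero, h1, map_mul, map_mul, map_mul, hpv, mul_zero, zero_mul, add_zero,
          ← map_pow, ← map_pow, sq, hp2, sub_self]
      · simp only [smul_eq_C_mul, map_add, map_mul, hx, hy]
        rw [← map_ofNat C 2, hC', h1, h2, hC']
        simp only [map_mul, hpv, mul_zero, zero_mul, add_zero]
      · simp only [smul_eq_C_mul, map_sub, map_mul, map_pow, hx, hy, hC', sq, hε, mul_zero, zero_sub]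
        rw [h1]
        simp only [map_mul, hpv, mul_zero, zero_mul, neg_zero]

end Groth.Agent.WeierLocal
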