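import Mathlib.RingTheory.MvPowerSeries.Trunc
import Mathlib.Algebra.MvPolynomial.Eval

/-! Evaluation of power series in two variables at nilpotent elements. -/

universe u

namespace Groth.Agent.WeierLocal

open MvPowerSeries

variable {R T : Type u} [CommRing R] [CommRing T] [Algebra R T]

theorem exists_evalNil (a : Fin 2 → T) (N : ℕ) (h : ∀ i, a i ^ (N + 1) = 0) :
    ∃ φ : MvPowerSeries (Fin 2) R →+* T,
      (∀ r, φ (algebraMap R _ r) = algebraMap R T r) ∧ ∀ i, φ (X i) = a i := by
  classical
  let n : Fin 2 →₀ ℕ := Finsupp.equivFunOnFinite.symm fun _ => N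
  let ev := MvPolynomial.aeval (R := R) a
  have kill : ∀ p : MvPolynomial (Fin 2) R, (∀ m ≤ n, p.coeff m = 0) → ev p = 0 := by
    intro p hp
    rw [MvPolynomial.aeval_def, MvPolynomial.eval₂_eq']
    refine Finset.sum_eq_zero fun m _ => ?_
    by_cases hm : m ≤ n
    · rw [hp m hm, map_zero, zero_mul]
    · obtain ⟨i, hi⟩ : ∃ i, ¬ m i ≤ n i := not_forall.1 fun h' => hm (Finsupp.le_def.2 h')
      have : a i ^ m i = 0 := pow_eq_zero_of_le (show N + 1 ≤ m i by simp [n] at hi; omega) (h i)
      rw [Finset.prod_eq_zero (Finset.mem_univ i) this, mul_zero]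
  have eqv : ∀ p q : MvPolynomial (Fin 2) R, (∀ m ≤ n, p.coeff m = q.coeff m) → ev p = ev q := by
    intro p q hpq
    rw [← sub_eq_zero, ← map_sub]
    exact kill _ fun m hm => by exact ((MvPolynomial.coeffAddMonoidHom m).map_sub p q).trans (sub_eq_zero.2 (hpq m hm))
  let φ : MvPowerSeries (Fin 2) R →+* T :=
    { toFun := fun f => ev (trunc' R n f)
      map_one' := by rw [trunc'_one, map_one]
      map_mul' := fun f g => by
        rw [← map_mul]
        exact eqv _ _ fun m hm => by
          rw [coeff_trunc', if_pos hm]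
          exact (coeff_trunc'_mul_trunc'_eq_coeff_mul n f g hm).symm
      map_zero' := by rw [map_zero, map_zero]
      map_add' := fun f g => by rw [map_add, map_add] }
  refine ⟨φ, fun r => ?_, fun i => ?_⟩
  · show ev (trunc' R n (C r)) = _
    rw [trunc'_C, MvPolynomial.aeval_C]
  · show ev (trunc' R n (X i)) = _
    rw [show a i = ev (MvPolynomial.X i) from (MvPolynomial.aeval_X a i).symm]
    refine eqv _ _ fun m hm => ?_
    rw [coeff_trunc', if_pos hm, coeff_X, MvPolynomial.coeff_X]
    simp [eq_comm]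

end Groth.Agent.WeierLocal
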